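import Mathlib.RingTheory.LocalRing.Module
import Mathlib.RingTheory.GradedAlgebra.Basic
import Mathlib.Algebra.GradedMulAction
import Mathlib.RingTheory.Finiteness.Nakayama
import Mathlib.LinearAlgebra.Dimension.Constructions

/-!
# Homogeneous bases of graded modules
-/

set_option autoImplicit false

universe u v w

open DirectSum TensorProduct

namespace GrFreeLib

section Nakayama

variable {ι : Type w} [AddCommMonoid ι] [DecidableEq ι] {R : Type u} [CommRing R] {σ : Type*} [SetLike σ R]
  [AddSubmonoidClass σ R] (𝒜 : ι → σ) [GradedRing 𝒜]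
  {M : Type v} [AddCommGroup M] [Module R M] {τ : Type*} [SetLike τ M] [AddSubmonoidClass τ M]
  (ℳ : ι → τ) [DirectSum.Decomposition ℳ] [SetLike.GradedSMul 𝒜 ℳ]
  (w : ι →+ ℤ)

theorem decompose_smul_mem (S : Submodule R M) (a : R) (x : M) (d : ι)
    (h : ∀ e b, e + b = d → (decompose 𝒜 a e : R) • (decompose ℳ x b : M) ∈ S) :
    (decompose ℳ (a • x) d : M) ∈ S := by
  classical
  rw [← DirectSum.sum_support_decompose 𝒜 a, ← DirectSum.sum_support_decompose ℳ x, Finset.sum_smul,
    DirectSum.decompose_sum, DFinsupp.finset_sum_apply, AddSubmonoidClass.coe_finsetSum]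
  refine Submodule.sum_mem _ fun e _ => ?_
  rw [Finset.smul_sum, DirectSum.decompose_sum, DFinsupp.finset_sum_apply, AddSubmonoidClass.coe_finsetSum]
  refine Submodule.sum_mem _ fun b _ => ?_
  have hmem : (decompose 𝒜 a e : R) • (decompose ℳ x b : M) ∈ ℳ (e + b) :=
    SetLike.GradedSMul.smul_mem (A := 𝒜) (B := ℳ) (decompose 𝒜 a e).2 (decompose ℳ x b).2
  by_cases hd : e + b = d
  · rw [hd] at hmem
    rw [DirectSum.decompose_of_mem_same ℳ hmem]
    exact h e b hd
  · rw [DirectSum.decompose_of_mem_ne ℳ hmem hd]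
    exact S.zero_mem

theorem decompose_smul_zero (r : R) (hr : r ∈ 𝒜 0) (x : M) (d : ι) :
    (decompose ℳ (r • x) d : M) = r • (decompose ℳ x d : M) := by
  classical
  conv_lhs => rw [← DirectSum.sum_support_decompose ℳ x, Finset.smul_sum, DirectSum.decompose_sum,
    DFinsupp.finset_sum_apply, AddSubmonoidClass.coe_finsetSum]
  have hmem : ∀ b, r • (decompose ℳ x b : M) ∈ ℳ b := fun b => by
    have := SetLike.GradedSMul.smul_mem (A := 𝒜) (B := ℳ) hr (decompose ℳ x b).2
    rwa [vadd_eq_add, zero_add] at this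
  rw [Finset.sum_eq_single d]
  · exact DirectSum.decompose_of_mem_same ℳ (hmem d)
  · exact fun b _ hb => DirectSum.decompose_of_mem_ne ℳ (hmem b) hb
  · intro hd
    rw [DFinsupp.notMem_support_iff] at hd
    rw [DirectSum.decompose_of_mem_same ℳ (hmem d), hd, ZeroMemClass.coe_zero, smul_zero]

include 𝒜 in
theorem decompose_mem_span {m : ℕ} (f : Fin m → M) (hf : ∀ i, SetLike.IsHomogeneousElem ℳ (f i)) :
    ∀ x ∈ Submodule.span R (Set.range f), ∀ d, (decompose ℳ x d : M) ∈ Submodule.span R (Set.range f) := by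
  classical
  intro x hx d
  induction hx using Submodule.span_induction with
  | mem y hy =>
    obtain ⟨i, rfl⟩ := hy
    obtain ⟨e, he⟩ := hf i
    by_cases hed : e = d
    · subst hed; rw [DirectSum.decompose_of_mem_same ℳ he]; exact Submodule.subset_span ⟨i, rfl⟩
    · rw [DirectSum.decompose_of_mem_ne ℳ he hed]; exact Submodule.zero_mem _
  | zero => simp
  | add a b _ _ ha hb =>
    rw [DirectSum.decompose_add, DirectSum.add_apply, AddMemClass.coe_add]
    exact Submodule.add_mem _ ha hb
  | smul a y hy ih =>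
    obtain ⟨c, rfl⟩ := Submodule.mem_span_range_iff_exists_fun R |>.1 hy
    rw [Finset.smul_sum, DirectSum.decompose_sum, DFinsupp.finset_sum_apply, AddSubmonoidClass.coe_finsetSum]
    refine Submodule.sum_mem _ fun i _ => ?_
    rw [smul_smul]
    obtain ⟨e, he⟩ := hf i
    refine decompose_smul_mem 𝒜 ℳ _ _ _ _ fun e' b _ => Submodule.smul_mem _ _ ?_
    by_cases heb : e = b
    · subst heb; rw [DirectSum.decompose_of_mem_same ℳ he]; exact Submodule.subset_span ⟨i, rfl⟩
    · rw [DirectSum.decompose_of_mem_ne ℳ he heb]; exact Submodule.zero_mem _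

/-- An ideal generated by homogeneous elements of positive weight has no components of weight `≤ 0`. -/
theorem comp_eq_zero_of_mem_span (hnn : ∀ e, w e < 0 → ∀ a ∈ 𝒜 e, a = 0) (S : Set R)
    (hS : ∀ a ∈ S, ∃ e, 0 < w e ∧ a ∈ 𝒜 e) :
    ∀ a ∈ Ideal.span S, ∀ e, w e ≤ 0 → (decompose 𝒜 a e : R) = 0 := by
  intro a ha
  induction ha using Submodule.span_induction with
  | mem y hy =>
    intro e he
    obtain ⟨e', he', hy'⟩ := hS y hy
    exact DirectSum.decompose_of_mem_ne 𝒜 hy' (fun h => by rw [h] at he'; omega)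
  | zero => simp
  | add b c _ _ hb hc =>
    intro e he
    rw [DirectSum.decompose_add, DirectSum.add_apply, AddMemClass.coe_add, hb e he, hc e he, add_zero]
  | smul b c _ hc =>
    intro e he
    refine (Submodule.mem_bot R).1 (decompose_smul_mem 𝒜 𝒜 (⊥ : Submodule R R) b c e fun i j hij => ?_)
    rw [Submodule.mem_bot, smul_eq_mul]
    by_cases hi : w i < 0
    · rw [hnn i hi _ (decompose 𝒜 b i).2, zero_mul]
    · have hwij : w i + w j = w e := by rw [← map_add, hij]
      rw [hc j (by omega), mul_zero]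

/-- Graded Nakayama: up to powers of a degree-zero element. -/
theorem exists_pow_smul_mem (J : Ideal R) (hJ : ∀ a ∈ J, ∀ e, w e ≤ 0 → (decompose 𝒜 a e : R) = 0)
    (B : ℤ) (hB : ∀ d, w d < B → ∀ x ∈ ℳ d, x = 0) (r : R) (hr : r ∈ 𝒜 0) (N : Submodule R M)
    (hN : ∀ x ∈ N, ∀ d, (decompose ℳ x d : M) ∈ N) (h : ∀ x, r • x ∈ J • (⊤ : Submodule R M) ⊔ N) (x : M) :
    ∃ k : ℕ, r ^ k • x ∈ N := by
  classical
  have key : ∀ k : ℕ, ∀ d, w d < B + k → ∀ y ∈ ℳ d, r ^ k • y ∈ N := by
    intro k
    induction k with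
    | zero => intro d hd y hy; rw [hB d (by simpa using hd) y hy, smul_zero]; exact N.zero_mem
    | succ k ih =>
      intro d hd y hy
      obtain ⟨u, hu, v, hv, huv⟩ := Submodule.mem_sup.1 (h y)
      have h1 := congrArg (fun z => (decompose ℳ z d : M)) huv
      simp only [DirectSum.decompose_add, DirectSum.add_apply, AddMemClass.coe_add,
        decompose_smul_zero 𝒜 ℳ r hr, DirectSum.decompose_of_mem_same ℳ hy] at h1
      rw [pow_succ, mul_smul, ← h1, smul_add]
      refine N.add_mem ?_ (N.smul_mem _ (hN v hv d))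
      refine Submodule.smul_induction_on (p := fun u => r ^ k • (decompose ℳ u d : M) ∈ N) hu ?_ ?_
      · intro a ha m _
        refine decompose_smul_mem 𝒜 ℳ (N.comap (LinearMap.lsmul R M (r ^ k))) a m d fun e b heb => ?_
        show r ^ k • ((decompose 𝒜 a e : R) • (decompose ℳ m b : M)) ∈ N
        by_cases he : w e ≤ 0
        · rw [hJ a ha e he, zero_smul, smul_zero]; exact N.zero_mem
        · rw [smul_comm]
          have hw : w e + w b = w d := by rw [← map_add, heb]
          exact N.smul_mem _ (ih b (by push_cast at hd; omega) _ (decompose ℳ m b).2)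
      · intro a b ha hb
        rw [DirectSum.decompose_add, DirectSum.add_apply, AddMemClass.coe_add, smul_add]
        exact N.add_mem ha hb
  let K := (decompose ℳ x).support.sup fun d => (w d - B + 1).toNat
  have h0 : ∑ d ∈ (decompose ℳ x).support, r ^ K • (decompose ℳ x d : M) ∈ N := by
    refine N.sum_mem fun d hd => key _ d ?_ _ (decompose ℳ x d).2
    have hle : (w d - B + 1).toNat ≤ K := Finset.le_sup (f := fun d => (w d - B + 1).toNat) hd
    omega
  rw [← Finset.smul_sum, DirectSum.sum_support_decompose] at h0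
  exact ⟨K, h0⟩

/-- If `r • x = a • x` with `a` of positive weight then a power of `r` kills `x`. -/
theorem exists_pow_smul_eq_zero (J : Ideal R) (hJ : ∀ a ∈ J, ∀ e, w e ≤ 0 → (decompose 𝒜 a e : R) = 0)
    (B : ℤ) (hB : ∀ d, w d < B → ∀ x ∈ ℳ d, x = 0) (r : R) (hr : r ∈ 𝒜 0) (a : R) (ha : a ∈ J) (x : M)
    (hx : r • x = a • x) : ∃ k : ℕ, r ^ k • x = 0 := by
  classical
  have key : ∀ k : ℕ, ∀ d, w d < B + k → r ^ k • (decompose ℳ x d : M) = 0 := by
    intro k
    induction k with
    | zero => intro d hd; rw [hB d (by simpa using hd) _ (decompose ℳ x d).2, smul_zero]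
    | succ k ih =>
      intro d hd
      rw [pow_succ, mul_smul, ← decompose_smul_zero 𝒜 ℳ r hr, hx]
      refine decompose_smul_mem 𝒜 ℳ (LinearMap.ker (LinearMap.lsmul R M (r ^ k))) a x d fun e b heb => ?_
      show r ^ k • ((decompose 𝒜 a e : R) • (decompose ℳ x b : M)) = 0
      by_cases he : w e ≤ 0
      · rw [hJ a ha e he, zero_smul, smul_zero]
      · have hw : w e + w b = w d := by rw [← map_add, heb]
        rw [smul_comm, ih b (by push_cast at hd; omega), smul_zero]
  let K := (decompose ℳ x).support.sup fun d => (w d - B + 1).toNat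
  have h0 : ∑ d ∈ (decompose ℳ x).support, r ^ K • (decompose ℳ x d : M) = 0 := by
    refine Finset.sum_eq_zero fun d hd => key _ d ?_
    have hle : (w d - B + 1).toNat ≤ K := Finset.le_sup (f := fun d => (w d - B + 1).toNat) hd
    omega
  rw [← Finset.smul_sum, DirectSum.sum_support_decompose] at h0
  exact ⟨K, h0⟩

theorem exists_bound (hnn : ∀ e, w e < 0 → ∀ a ∈ 𝒜 e, a = 0) [Module.Finite R M] :
    ∃ B : ℤ, ∀ d, w d < B → ∀ x ∈ ℳ d, x = 0 := by
  classical
  obtain ⟨s, hs⟩ := Module.Finite.fg_top (R := R) (M := M)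
  let T := s.biUnion fun g => (decompose ℳ g).support
  obtain ⟨B, hB⟩ := (T.image w).bddBelow
  refine ⟨B, fun d hd x hx => ?_⟩
  rw [← DirectSum.decompose_of_mem_same ℳ hx]
  obtain ⟨c, -, rfl⟩ := Submodule.mem_span_finset.1 (hs.symm ▸ Submodule.mem_top : x ∈ Submodule.span R (s : Set M))
  rw [DirectSum.decompose_sum, DFinsupp.finset_sum_apply, AddSubmonoidClass.coe_finsetSum]
  refine Finset.sum_eq_zero fun g hg => ?_
  refine (Submodule.mem_bot R).1 (decompose_smul_mem 𝒜 ℳ ⊥ _ g d fun e b heb => ?_)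
  rw [Submodule.mem_bot]
  by_cases he : w e < 0
  · rw [hnn e he _ (decompose 𝒜 _ e).2, zero_smul]
  by_cases hb : b ∈ (decompose ℳ g).support
  · have hw : w e + w b = w d := by rw [← map_add, heb]
    have : B ≤ w b := hB (Finset.mem_image_of_mem w (Finset.mem_biUnion.2 ⟨g, hg, hb⟩))
    omega
  · rw [DFinsupp.notMem_support_iff] at hb
    rw [hb, ZeroMemClass.coe_zero, smul_zero]

end Nakayama

variable {R : Type u} [CommRing R] {M : Type v} [AddCommGroup M] [Module R M] [Module.Finite R M]

/-- Homogeneous elements forming a basis of the fibre at a prime. -/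
theorem exists_fibre_basis {ι : Type w} [DecidableEq ι] {τ : Type*} [SetLike τ M] [AddSubmonoidClass τ M]
    (ℳ : ι → τ) [DirectSum.Decomposition ℳ] (P : Ideal R) [P.IsPrime] :
    ∃ (m : ℕ) (f : Fin m → M), (∀ i, SetLike.IsHomogeneousElem ℳ (f i)) ∧
      LinearIndependent P.ResidueField (fun i => (1 : P.ResidueField) ⊗ₜ[R] f i) ∧
      ∃ d ∉ P, ∀ x : M, d • x ∈ Submodule.span R (Set.range f) := by
  classical
  let κ := P.ResidueField
  let H : Set M := {x | SetLike.IsHomogeneousElem ℳ x}
  have hH : Submodule.span R H = ⊤ := Submodule.eq_top_iff'.2 fun x => by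
    rw [← DirectSum.sum_support_decompose ℳ x]
    exact Submodule.sum_mem _ fun d _ => Submodule.subset_span ⟨d, (decompose ℳ x d).2⟩
  let S : Set (κ ⊗[R] M) := (fun x => (1 : κ) ⊗ₜ[R] x) '' H
  have hS : Submodule.span κ S = ⊤ := by
    have h2 := TensorProduct.span_tmul_eq_top R κ M
    refine Submodule.eq_top_iff'.2 fun z => ?_
    induction z with
    | zero => exact Submodule.zero_mem _
    | add a b ha hb => exact Submodule.add_mem _ ha hb
    | tmul c x =>
      have hx : x ∈ Submodule.span R H := hH ▸ Submodule.mem_top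
      induction hx using Submodule.span_induction with
      | mem y hy =>
        rw [← mul_one c, ← smul_eq_mul, ← TensorProduct.smul_tmul']
        exact Submodule.smul_mem _ _ (Submodule.subset_span ⟨y, hy, rfl⟩)
      | zero => rw [TensorProduct.tmul_zero]; exact Submodule.zero_mem _
      | add a b _ _ ha hb => rw [TensorProduct.tmul_add]; exact Submodule.add_mem _ ha hb
      | smul a y _ hy =>
        rw [TensorProduct.tmul_smul, ← algebraMap_smul κ a]
        exact Submodule.smul_mem _ _ hy
  obtain ⟨t, htS, htspan, htli⟩ := exists_linearIndependent κ S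
  haveI : Finite t := htli.finite_of_isNoetherian
  haveI := Fintype.ofFinite t
  choose g hgH hg using fun z : t => htS z.2
  let e := (Fintype.equivFin t).symm
  refine ⟨Fintype.card t, fun i => g (e i), fun i => hgH _, ?_, ?_⟩
  · have hcomp : ((↑) ∘ e : Fin (Fintype.card t) → κ ⊗[R] M) = fun i => (1 : κ) ⊗ₜ[R] g (e i) :=
      funext fun i => (hg (e i)).symm
    exact hcomp ▸ htli.comp e e.injective
  · let N := Submodule.span R (Set.range fun i => g (e i))
    have hns : (⟨P, inferInstance⟩ : PrimeSpectrum R) ∉ Module.support R (M ⧸ N) := by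
      rw [Module.mem_support_iff_nontrivial_residueField_tensorProduct, not_nontrivial_iff_subsingleton]
      refine subsingleton_of_forall_eq 0 fun z => ?_
      obtain ⟨y, rfl⟩ := LinearMap.baseChange_surjective (A := κ) N.mkQ_surjective z
      have hy : y ∈ Submodule.span κ t := by rw [htspan, hS]; exact Submodule.mem_top
      refine (LinearMap.mem_ker).1 ((Submodule.span_le.2 ?_) hy : y ∈ LinearMap.ker (N.mkQ.baseChange κ))
      intro x hx
      rw [SetLike.mem_coe, LinearMap.mem_ker, show x = (1 : κ) ⊗ₜ[R] g ⟨x, hx⟩ from (hg ⟨x, hx⟩).symm,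
        LinearMap.baseChange_tmul]
      have hmem : g ⟨x, hx⟩ ∈ N := Submodule.subset_span ⟨e.symm ⟨x, hx⟩, by simp⟩
      rw [Submodule.mkQ_apply, (Submodule.Quotient.mk_eq_zero N).2 hmem, TensorProduct.tmul_zero]
    rw [Module.support_eq_zeroLocus, PrimeSpectrum.mem_zeroLocus, SetLike.coe_subset_coe, SetLike.not_le_iff_exists] at hns
    obtain ⟨d, hd, hdP⟩ := hns
    exact ⟨d, hdP, fun x => (Submodule.Quotient.mk_eq_zero N).1
      ((Submodule.Quotient.mk_smul N d x).trans (Module.mem_annihilator.1 hd _))⟩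

omit [Module.Finite R M] in
theorem mem_of_sum_eq_zero {m : ℕ} {f : Fin m → M} (P : Ideal R) [P.IsPrime]
    (hli : LinearIndependent P.ResidueField (fun i => (1 : P.ResidueField) ⊗ₜ[R] f i))
    {c : Fin m → R} (hc : ∑ i, c i • f i = 0) (i : Fin m) : c i ∈ P := by
  have h := congrArg (fun x => (1 : P.ResidueField) ⊗ₜ[R] x) hc
  simp only [TensorProduct.tmul_sum, TensorProduct.tmul_smul, TensorProduct.tmul_zero] at h
  simp_rw [← algebraMap_smul P.ResidueField (c _)] at h
  exact Ideal.algebraMap_residueField_eq_zero.1 (Fintype.linearIndependent_iff.1 hli _ h i)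

/-- A flat module: relations die at the prime. -/
theorem exists_mul_eq_zero [Module.Flat R M] {m : ℕ} {f : Fin m → M} (P : Ideal R) [P.IsPrime]
    (hli : LinearIndependent P.ResidueField (fun i => (1 : P.ResidueField) ⊗ₜ[R] f i))
    {c : Fin m → R} (hc : ∑ i, c i • f i = 0) : ∃ u ∉ P, ∀ i, u * c i = 0 := by
  classical
  let B := Localization.AtPrime P
  let κ := P.ResidueField
  let v : ULift.{max u v} (Fin m) → B ⊗[R] M := fun i => (1 : B) ⊗ₜ[R] f i.down
  let e : IsLocalRing.ResidueField B ⊗[B] (B ⊗[R] M) ≃ₗ[κ] κ ⊗[R] M :=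
    AlgebraTensorModule.cancelBaseChange R B κ κ M
  have hv : LinearIndependent B v := by
    refine Module.IsLocalRing.linearIndependent_of_flat v ?_
    refine LinearIndependent.of_comp e.toLinearMap ?_
    convert hli.comp ULift.down ULift.down_injective using 1
    funext i
    simp [v, e]
  have h0 : ∑ i : ULift.{max u v} (Fin m), algebraMap R B (c i.down) • v i = 0 := by
    have h := congrArg (fun x => (1 : B) ⊗ₜ[R] x) hc
    simp only [TensorProduct.tmul_sum, TensorProduct.tmul_smul, TensorProduct.tmul_zero] at h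
    simp only [algebraMap_smul, v]
    rw [← h]
    exact Fintype.sum_equiv Equiv.ulift _ _ fun i => rfl
  have h1 : ∀ i, algebraMap R B (c i) = 0 := fun i => Fintype.linearIndependent_iff.1 hv _ h0 ⟨i⟩
  choose u hu using fun i => (IsLocalization.map_eq_zero_iff P.primeCompl B (c i)).1 (h1 i)
  refine ⟨∏ i, (u i : R), fun h => ?_, fun i => ?_⟩
  · obtain ⟨i, -, hi⟩ := Ideal.IsPrime.prod_mem_iff.1 h
    exact (u i).2 hi
  · rw [← Finset.prod_erase_mul _ _ (Finset.mem_univ i), mul_assoc, hu i, mul_zero]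

/-- Independence up to a power of `r`, for a projective module. -/
theorem exists_pow_mul_eq_zero [Module.Projective R M] {m : ℕ} {f : Fin m → M} (P : Ideal R) [P.IsPrime]
    (hli : LinearIndependent P.ResidueField (fun i => (1 : P.ResidueField) ⊗ₜ[R] f i))
    (r : R) (hgen : ∀ x : M, ∃ k : ℕ, r ^ k • x ∈ Submodule.span R (Set.range f)) :
    ∃ u ∉ P, ∃ N : ℕ, ∀ c : Fin m → R, ∑ i, c i • f i = 0 → ∀ i, u * r ^ N * c i = 0 := by
  classical
  obtain ⟨s, hs⟩ := Module.Finite.fg_top (R := R) (M := M)
  choose k hk using hgen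
  let N := s.sup k
  have hN : ∀ x : M, r ^ N • x ∈ Submodule.span R (Set.range f) := by
    intro x
    have hle : Submodule.span R (s : Set M) ≤
        (Submodule.span R (Set.range f)).comap (LinearMap.lsmul R M (r ^ N)) := by
      refine Submodule.span_le.2 fun g hg => ?_
      show r ^ N • g ∈ Submodule.span R (Set.range f)
      have hkN : k g ≤ s.sup k := Finset.le_sup (f := k) (Finset.mem_coe.1 hg)
      obtain ⟨j, hj⟩ := Nat.exists_eq_add_of_le hkN
      rw [show r ^ N = r ^ j * r ^ k g by rw [← pow_add, show N = k g + j from hj, add_comm], mul_smul]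
      exact Submodule.smul_mem _ _ (hk g)
    exact hle (hs.symm ▸ Submodule.mem_top)
  let φ : (Fin m → R) →ₗ[R] M := Fintype.linearCombination R f
  have hrange : LinearMap.range φ = Submodule.span R (Set.range f) := Fintype.range_linearCombination R f
  obtain ⟨s', hs'⟩ := Module.projective_lifting_property φ.rangeRestrict
    (LinearMap.codRestrict (LinearMap.range φ) (r ^ N • LinearMap.id) fun x => hrange.symm ▸ hN x)
    (LinearMap.range_eq_top.1 φ.range_rangeRestrict)
  have hs2 : ∀ x, φ (s' x) = r ^ N • x := fun x => congrArg Subtype.val (LinearMap.congr_fun hs' x)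
  let e : (Fin m → R) →ₗ[R] (Fin m → R) := r ^ N • LinearMap.id - s'.comp φ
  have he : ∀ c, φ (e c) = 0 := fun c => by
    simp [e, hs2]
  have hk2 : ∀ j, ∃ u ∉ P, ∀ i, u * e (Pi.single j 1) i = 0 := fun j => by
    refine exists_mul_eq_zero P hli ?_
    exact (Fintype.linearCombination_apply R f _).symm.trans (he _)
  choose u hu hu' using hk2
  refine ⟨∏ j, u j, fun h => ?_, N, fun c hc i => ?_⟩
  · obtain ⟨j, -, hj⟩ := Ideal.IsPrime.prod_mem_iff.1 h
    exact hu j hj
  · have hkill : (∏ j, u j) • e = 0 := by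
      refine LinearMap.pi_ext' fun j => LinearMap.ext_ring (funext fun i => ?_)
      show (∏ j, u j) * e (Pi.single j 1) i = 0
      rw [← Finset.prod_erase_mul _ _ (Finset.mem_univ j), mul_assoc, hu' j i, mul_zero]
    have hφc : φ c = 0 := (Fintype.linearCombination_apply R f c).trans hc
    have h1 := congrFun (LinearMap.congr_fun hkill c) i
    simp only [e, LinearMap.smul_apply, LinearMap.sub_apply, LinearMap.id_coe, id_eq, LinearMap.comp_apply, hφc,
      map_zero, sub_zero, Pi.smul_apply, smul_eq_mul, LinearMap.zero_apply, Pi.zero_apply] at h1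
    rwa [mul_assoc]

end GrFreeLib
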